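import Cfsg.Agent.HigSims.Model

/-! Five permutations of one hundred points, as words in the strong generators and conversely. -/

set_option autoImplicit false
set_option linter.all false

namespace Cfsg.Agent.HSRecog.IdentData

/-- The five elements as words in the strong generators. -/
def toWords : List (List ℕ) := [[5,2,1,3,4,0,4,5,4,6,2],[1,5,5,3,0,0,2,0,5,0,2],[0,3,1,1,0,1,1,3,6],[1,0,2,1,0,4,0,2,0],[5,6,2,0,6,3,6,5,1,2]]

/-- The strong generators as words in the five elements. -/
def fromWords : List (List ℕ) := [[3,0,1,4,1,0,4,1,0,1,2,1,4,1,2,4],[2,1,1,4,0,1,4,0,1,1,0,1,4,1,1,0,1,3],[4,1,0,2,1,3,1,4,1,0,4,1,0,0,0,1,4],[0,1,3,1,4,1,0,1,0,1,4,1,1,3,0,1,4,1,3],[0,1,3,1,0,2,3,1,4,1,4,1,1],[0,4,1,1,1,4,0,1,4,1,0,4,1,2,1,1],[2,1,2,1,4,0,1,1,0,4,1,4,1,0,2,1,3,4,1]]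

/-- The codes of the five elements. -/
def fiveCodes : List ℕ := [0x7479c4d09bb892be28948f059781356cb2411b0a347debf32a590266780a2900c2a326a843b7c3558e8645d2736610968e812c661054341854331944224c0e51aae72b29d0b93ecdec35e956ab831d4b546dcebb8afd8,
  0x747679b8505f0da2288a0ae68240a8e02d617844217b8db27906134d3370e32608ed5e04a64afa715fd0564e300971db9f2c959c3123974c697caa8b0e436221756351929da25a48bd9aa780e01f4950348f224eb61ca31,
  0xc74e751b352860bf8add8af770d2b57ae569f56121785932e54d64a23e5d92f306a0b798a5b1c96798b494f633f3a9dc43749559991163a47c6dda858e602d888d0309acc38c144828808388031e1848d044c08b2854880,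
  0xb166ad1a752edcb56f163af430debf4b0569f386a118583a75518132862110160f8d947664f1306d98b46711abf0ab851f411d429905528e350662b58e48867a8dd18212933c7048e9716926cb1eb44c292717846f16000,
  0x1c75fde03812d20abc8a412a98518172a47246099e567de8fa0f99026629353c31a4ba6cf108d52ecd0087151d5b4104169759b831706ed86255c8c95331100ed4a4e0cb11199b3ec9c918dc204f0abad365edae5112fb4]

/-- The codes of their inverses. -/
def invCodes : List ℕ := [0x120878a02401930a1c8801c305882a34314241291ca07edbf56a2c9d677935390de4d670c4bdcbb34ca48715027b4628966aea325617d4d779016aa950b1605f2e3aea8b111a773d91ec2d1b23ab32c393685ece7d120e3,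
  0x947270c44f0d4206f481faf407d36e2adb4c2122245e59cc75cc5b05517ef546b765862b8cf525b24c23530003f70949996625d2091155077c52658583b141c15a1c622ad081644ac9b169ae179f693cd04768d510ec6b0,
  0xc76aadcb74ab51b34efd8af4275ec55305d9f84bbb6ece2a74ac531b5935e9d608d94b42acf2d78e63342d05a988120e1f531dd205d25524351261986d97b844f943f85281030c4808d1638414084c4902a2888f181c280,
  0xb166ad1a752edcb56f163af430debf4b0569f386a118583a75518132862110160f8d947664f1306d98b46711abf0ab851f411d429905528e350662b58e48867a8dd18212933c7048e9716926cb1eb44c292717846f16000,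
  0x1c75fde03812d20abc8a412a98518172a47246099e567de8fa0f99026629353c31a4ba6cf108d52ecd0087151d5b4104169759b831706ed86255c8c95331100ed4a4e0cb11199b3ec9c918dc204f0abad365edae5112fb4]

end Cfsg.Agent.HSRecog.IdentData
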